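import Cfsg.Agent.H148.SP.Map
import Cfsg.Agent.H193.SZ.ConjFrob
import Cfsg.Agent.H116.RatB0.StAut

/-!
# S4829: the standard field automorphisms of `PSp_{2m}` fix the parabolic subgroups (helper48)
-/

set_option autoImplicit false
set_option linter.unusedSectionVars false

namespace Cfsg.Agent.H48.R2

open Cfsg Cfsg.Agent.ClassicalGeometry.SympBasic Cfsg.Agent.ClassicalGeometry.SympAutSemi
open Cfsg.Agent.ChevalleyStructure.CoxeterGeom Cfsg.Agent.Tits.Roots
open Cfsg.Agent.Nodes Cfsg.Agent.Nodes.TypeC Cfsg.Agent.Nodes.WittRoot Cfsg.Agent.Nodes.WittRGD Cfsg.Agent.Nodes.WittAll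
  Cfsg.Agent.Nodes.WittU
open Cfsg.Agent.Nodes.Comb Cfsg.Agent.Nodes.Reps Cfsg.Agent.Nodes.BNOf Cfsg.Agent.Nodes.RGDLib Cfsg.Agent.Nodes.Bruhat
  Cfsg.Agent.Nodes.LeviDec
open Cfsg.Agent.TitsThree Cfsg.Agent.TitsThree.Siegel Cfsg.Agent.TitsThree.WittFrame
  Cfsg.Agent.TitsThree.WittWeyl Cfsg.Agent.TitsThree.SpIdent Cfsg.Agent.TitsThree.FrameCN
open Cfsg.Agent.H148.SP Cfsg.Agent.H206.PspFix Cfsg.Agent.H116.StAut

variable {m : ℕ} {F : Type} [Field F]

/-- the field automorphism is the functorial one -/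
theorem phi_eq_psmap (σ : F ≃+* F) (y : PSp m F) : phi m F σ y = psmap (σ : F →+* F) y := by
  obtain ⟨A, rfl⟩ := QuotientGroup.mk_surjective y
  show Psi m F (frobHom m F σ) (QuotientGroup.mk A) = _
  rw [Psi_mk]
  show (QuotientGroup.mk (conjHom m F (frobHom m F σ) A) : PSp m F) = QuotientGroup.mk (spmap (σ : F →+* F) A)
  congr 1
  exact Subtype.ext (H193.SZ.conjHom_frob_coe m σ A)

variable [Finite F] [CharP F 2] {W : Type*} [Group W] [Finite W] (cs : CoxeterSystem (CoxeterMatrix.B m) W)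

/-- the field automorphisms fix every parabolic subgroup -/
theorem phi_mem_PJ (σ : F ≃+* F) (J : Set (Fin m)) {y : PSp m F}
    (hy : y ∈ PJ cs (isCartan m) (WittModel.T (KInstSp.model m F)) (WittModel.X (KInstSp.model m F)) J) :
    phi m F σ y ∈ PJ cs (isCartan m) (WittModel.T (KInstSp.model m F)) (WittModel.X (KInstSp.model m F)) J := by
  rw [phi_eq_psmap]
  rw [mem_PJ_iff_cell (rgd cs)] at hy ⊢
  obtain ⟨w, hw, hc⟩ := hy
  exact ⟨w, hw, (psmap_hm cs (σ : F →+* F)).cell (rgd cs) (rgd cs) hc⟩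

/-- **(G0)** -/
theorem gel_phi (σ : F ≃+* F) :
    Gel cs (isCartan m) (WittModel.T (KInstSp.model m F)) (WittModel.X (KInstSp.model m F)) (phi m F σ) 1 1 := by
  intro J x
  rw [inv_one, one_mul, mul_one, Equiv.Perm.coe_one, Set.image_id]
  refine ⟨fun h => ?_, phi_mem_PJ cs σ J⟩
  have h1 := phi_mem_PJ cs σ⁻¹ J h
  rwa [map_inv, MulAut.inv_apply_self] at h1

end Cfsg.Agent.H48.R2
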