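import Cfsg.Agent.H48.R2.Auto
import Cfsg.Agent.H48.R2.GelPhi
import Cfsg.Agent.H546.FaPSp
import Cfsg.Agent.H226.R2.SpCent
import Cfsg.Agent.H103.R2.SpSt
import Cfsg.Agent.H193.SZ.GOne
import Cfsg.Agent.H637.CY.GTwo

/-!
# S4829, `Row2` for `Sp₄(2^f)`, `f = 2 mod 4` (helper48)
-/

set_option autoImplicit false

namespace Cfsg.Agent.H48.R2

open Cfsg Cfsg.Agent.ClassicalGeometry.SympBasic Cfsg.Agent.ClassicalGeometry.SympAutSemi
  Cfsg.Agent.ClassicalGeometry.SympGamma Cfsg.Agent.Characters.CCBasic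
open Cfsg.Agent.H206.PspFix Cfsg.Agent.H770.CY Cfsg.Agent.H226.R2

/-- a nontrivial field automorphism is outer -/
theorem phi_not_inner {m : ℕ} {F : Type} [Field F] (hm : 1 ≤ m) {σ : F ≃+* F} (h1 : σ ≠ 1) :
    phi m F σ ∉ (MulAut.conj : PSp m F →* MulAut (PSp m F)).range := by
  rintro ⟨y, hy⟩
  obtain ⟨A, rfl⟩ := QuotientGroup.mk_surjective y
  rw [H546.FaPSp.conj_mk] at hy
  have h2 : Psi m F ((H546.FaPSp.rhoSS A)⁻¹ * frobHom m F σ) = 1 := by
    rw [map_mul, map_inv, hy]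
    exact inv_mul_cancel _
  obtain ⟨a, ha⟩ := exists_scal_of_Psi_eq_one hm _ h2
  have h3 : (frobHom m F σ).1 = rho m F A * scal m F a := by
    rw [← ha]
    show _ = (H546.FaPSp.rhoSS A).1 * ((H546.FaPSp.rhoSS A)⁻¹ * frobHom m F σ).1
    rw [← Subgroup.coe_mul, mul_inv_cancel_left]
  have h4 : IsSemi (frobHom m F σ).1 σ 1 := isSemi_frobPerm σ
  rw [h3] at h4
  have h5 := (isSemi_rho A).mul (isSemi_scal (m := m) a)
  exact h1 (IsSemi.unique hm h4 h5).1

/-- the numbers -/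
theorem num {f : ℕ} (hf : f % 4 = 2) : 5 ∣ 2 ^ f + 1 ∧ 2 < 2 ^ f := by
  obtain ⟨k, rfl⟩ : ∃ k, f = 4 * k + 2 := ⟨f / 4, by omega⟩
  have h1 : 2 ^ (4 * k + 2) = 16 ^ k * 4 := by rw [pow_add, pow_mul]; norm_num
  rw [h1]
  have h2 : 16 ^ k % 5 = 1 := by
    rw [Nat.pow_mod]
    norm_num
  have h3 : 0 < 16 ^ k := by positivity
  constructor
  · omega
  · omega

/-- the field involution -/
theorem exists_invol {F : Type} [Field F] [Finite F] [CharP F 2] {g : ℕ} (hg : 0 < g) (hF : Nat.card F = 2 ^ (2 * g)) :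
    ∃ σ : F ≃+* F, σ * σ = 1 ∧ σ ≠ 1 := by
  have := Fintype.ofFinite F
  have : Fact (Nat.Prime 2) := ⟨Nat.prime_two⟩
  refine ⟨iterateFrobeniusEquiv F 2 g, ?_, ?_⟩
  · ext a
    show iterateFrobeniusEquiv F 2 g (iterateFrobeniusEquiv F 2 g a) = a
    rw [iterateFrobeniusEquiv_def, iterateFrobeniusEquiv_def, ← pow_mul, ← pow_add, ← two_mul, ← hF,
      Nat.card_eq_fintype_card, FiniteField.pow_card]
  · intro h
    have h1 : ∀ a : F, a ^ 2 ^ g = a := fun a => by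
      rw [← iterateFrobeniusEquiv_def F 2 g a, h]
      rfl
    have h2 : Nat.card F ≤ 2 ^ g := by
      rw [Nat.card_eq_fintype_card]
      have h3 : (Polynomial.X ^ (2 ^ g) - Polynomial.X : Polynomial F) ≠ 0 :=
        FiniteField.X_pow_card_pow_sub_X_ne_zero F hg.ne' (by norm_num)
      have h4 : (Polynomial.X ^ (2 ^ g) - Polynomial.X : Polynomial F).natDegree = 2 ^ g :=
        FiniteField.X_pow_card_pow_sub_X_natDegree_eq F hg.ne' (by norm_num)
      rw [← h4]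
      classical
      refine (Finset.card_le_card (s := Finset.univ) (t := (Polynomial.X ^ (2 ^ g) - Polynomial.X : Polynomial F).roots.toFinset)
        fun a _ => ?_).trans ((Multiset.toFinset_card_le _).trans (Polynomial.card_roots' _))
      rw [Multiset.mem_toFinset, Polynomial.mem_roots h3]
      simp [h1 a]
    rw [hF] at h2
    exact absurd h2 (not_le.2 (Nat.pow_lt_pow_right (by norm_num) (by omega)))

/-- **`Sp₄(2^f)`, `f = 2 mod 4`** -/
theorem row2_psp4_two {F : Type} [Field F] [Fintype F] [CharP F 2] {f : ℕ} (hf : f % 4 = 2) (hF : Nat.card F = 2 ^ f) :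
    Row2 (PSp 2 F) := by
  obtain ⟨h5, h2⟩ := num hf
  rw [← hF, Nat.card_eq_fintype_card] at h5 h2
  obtain ⟨g, hg⟩ : ∃ g, f = 2 * g := ⟨f / 2, by omega⟩
  obtain ⟨σ, hσ2, hσ1⟩ := exists_invol (F := F) (g := g) (by omega) (by rw [hF, hg])
  have hfin : Finite (PSp 2 F) := inferInstance
  refine row2_of_odd_index (Γ := ⊤) (by rw [Subgroup.index_top]; exact odd_one) ?_
  refine ratInv_of_aut (H546.FaPSp.center (by norm_num)) (φ := phi 2 F σ) ?_ (phi_not_inner (by norm_num) hσ1)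
    (H193.SZ.conj_frob (by rwa [Nat.card_eq_fintype_card]) σ) (n := Fintype.card F + 1) ?_
    (H226.R2.exists_cc_cent hσ2 hσ1 h5) ?_
  · rw [← map_mul, hσ2, map_one]
  · rw [← Nat.card_eq_fintype_card, hF]
    exact (Nat.even_pow.2 ⟨by norm_num, by omega⟩).add_one
  · intro A _ _ k ψ hψ x hx
    exact H103.R2.exists_st_of σ hσ2 (fun k y t => H193.SZ.gOne hσ2 hσ1 H103.R2.csB k y t)
      (H637.CY.gTwo H103.R2.csB hσ2 hσ1 h5) k ψ hψ x hx

end Cfsg.Agent.H48.R2
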