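import Cfsg.Agent.H48.R2.Concl
import Cfsg.Agent.H907.R2.PslTwo

/-!
# S4829, `Row2` from an outer involution (helper48)

`S` with trivial center, `φ` an outer involution whose class is normalized by `Aut S`, `C = C_S(φ)` with a cyclic
CC-subgroup `T` of odd order, an element of order five of `T` conjugate in `C` to its nontrivial powers, and an extension
`th` of a character to the groups between: `RatInv S ⊤`.
-/

set_option autoImplicit false

namespace Cfsg.Agent.H48.R2

open Cfsg Cfsg.Agent.Characters.Core Cfsg.Agent.Characters Cfsg.Agent.H770.CY Cfsg.Agent.Characters.CCBasic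
open Cfsg.Agent.H226.R2
open scoped ComplexConjugate

universe u

section

variable {X : Type u} [Group X]

/-- `N ⟨x⟩`, `N` normal and `x` an involution -/
def ext2 (N : Subgroup X) [hN : N.Normal] (x : X) (h2 : x * x = 1) : Subgroup X where
  carrier := {b | b ∈ N ∨ b * x ∈ N}
  one_mem' := Or.inl (one_mem N)
  mul_mem' := by
    have hx : x⁻¹ = x := inv_eq_of_mul_eq_one_right h2
    have hcj : ∀ b ∈ N, x * b * x ∈ N := fun b hb => by
      have := hN.conj_mem b hb x
      rwa [hx] at this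
    rintro a b (ha | ha) (hb | hb)
    · exact Or.inl (mul_mem ha hb)
    · exact Or.inr (by rw [mul_assoc]; exact mul_mem ha hb)
    · refine Or.inr ?_
      have e : a * b * x = a * x * (x * b * x) := by
        rw [mul_assoc x b x, ← mul_assoc (a * x) x, mul_assoc a x x, h2, mul_one, ← mul_assoc]
      rw [e]
      exact mul_mem ha (hcj b hb)
    · refine Or.inl ?_
      have e : a * b = a * x * (x * (b * x) * x) := by
        have e1 : x * (b * x) * x = x * b := by rw [mul_assoc x, mul_assoc b, h2, mul_one]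
        rw [e1, ← mul_assoc (a * x), mul_assoc a x x, h2, mul_one]
      rw [e]
      exact mul_mem ha (hcj _ hb)
  inv_mem' := by
    have hx : x⁻¹ = x := inv_eq_of_mul_eq_one_right h2
    rintro a (ha | ha)
    · exact Or.inl (inv_mem ha)
    · refine Or.inr ?_
      have h1 := hN.conj_mem _ (inv_mem ha) x
      have e : x * (a * x)⁻¹ * x⁻¹ = a⁻¹ * x := by
        rw [mul_inv_rev, hx, ← mul_assoc, h2, one_mul]
      rwa [e] at h1

theorem mem_ext2 {N : Subgroup X} [N.Normal] {x : X} {h2 : x * x = 1} {b : X} :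
    b ∈ ext2 N x h2 ↔ b ∈ N ∨ b * x ∈ N := Iff.rfl

end

section

variable {C : Type u} [Group C] [Finite C] {T : Subgroup C}

/-- the elements of order `p` of a group with a CC-subgroup -/
theorem exists_conj_mem (hT : IsCC T) {p : ℕ} [hp : Fact p.Prime] {x y : C} (hx : x ∈ T) (hxo : orderOf x = p)
    (hyo : orderOf y = p) : ∃ g : C, g * y * g⁻¹ ∈ T := by
  have hpg : ∀ z : C, orderOf z = p → IsPGroup p (Subgroup.zpowers z) := fun z hz =>
    IsPGroup.of_card (n := 1) (by rw [Nat.card_zpowers, hz, pow_one])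
  have hx1 : x ≠ 1 := by
    rintro rfl
    rw [orderOf_one] at hxo
    exact hp.out.one_lt.ne hxo
  obtain ⟨P, hP⟩ := (hpg x hxo).exists_le_sylow
  obtain ⟨Q, hQ⟩ := (hpg y hyo).exists_le_sylow
  have hxP : x ∈ (P : Subgroup C) := hP (Subgroup.mem_zpowers x)
  have hnt : Nontrivial (P : Subgroup C) := ⟨⟨⟨x, hxP⟩, 1, fun h => hx1 (congrArg Subtype.val h)⟩⟩
  have hPT : (P : Subgroup C) ≤ T := by
    have := P.2.center_nontrivial
    obtain ⟨z, hz1⟩ := exists_ne (1 : Subgroup.center (P : Subgroup C))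
    have hzc := Subgroup.mem_center_iff.1 z.2
    have hz1' : ((z : (P : Subgroup C)) : C) ≠ 1 := fun h => hz1 (Subtype.ext (Subtype.ext h))
    have hzT : ((z : (P : Subgroup C)) : C) ∈ T := by
      refine hT.mem_of_comm hx hx1 ?_
      exact (congrArg Subtype.val (hzc ⟨x, hxP⟩)).symm
    intro u hu
    exact hT.mem_of_comm hzT hz1' (congrArg Subtype.val (hzc ⟨u, hu⟩))
  obtain ⟨g, hg⟩ := MulAction.exists_smul_eq C Q P
  refine ⟨g, hPT ?_⟩
  have h1 : y ∈ (Q : Subgroup C) := hQ (Subgroup.mem_zpowers y)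
  rw [← hg, Sylow.coe_subgroup_smul]
  exact Subgroup.smul_mem_pointwise_smul y (MulAut.conj g) (Q : Subgroup C) h1

/-- an automorphism maps a CC-subgroup to a conjugate -/
theorem exists_conj_le (hT : IsCC T) {p : ℕ} [hp : Fact p.Prime] {x : C} (hx : x ∈ T) (hxo : orderOf x = p)
    (b : MulAut C) : ∃ g : C, ∀ a ∈ T, g * b a * g⁻¹ ∈ T := by
  have hx1 : x ≠ 1 := by
    rintro rfl
    rw [orderOf_one] at hxo
    exact hp.out.one_lt.ne hxo
  have hbo : orderOf (b x) = p := by
    rw [← hxo]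
    exact orderOf_injective b.toMonoidHom b.injective x
  obtain ⟨g, hg⟩ := exists_conj_mem hT hx hxo hbo
  refine ⟨g, fun a ha => hT.mem_of_comm hg ?_ ?_⟩
  · intro h
    apply hx1
    have h1 : b x = 1 := conj_eq_one_iff.1 h
    exact (map_eq_one_iff b b.injective).1 h1
  · have h1 : b a * b x = b x * b a := by rw [← map_mul, ← map_mul, hT.comm ha hx]
    calc g * b a * g⁻¹ * (g * b x * g⁻¹) = g * (b a * b x) * g⁻¹ := by group
      _ = g * (b x * b a) * g⁻¹ := by rw [h1]
      _ = _ := by group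

end

section

variable {S : Type u} [Group S] [Finite S]

/-- **`Row2` from an outer involution.** -/
theorem ratInv_of_aut (hc : Subgroup.center S = ⊥) {φ : MulAut S} (h2 : φ * φ = 1)
    (hφ : φ ∉ (MulAut.conj : S →* MulAut S).range)
    (hconj : ∀ a : MulAut S, ∃ s : S, a * φ * a⁻¹ = MulAut.conj s * φ * (MulAut.conj s)⁻¹)
    {n : ℕ} (hn : Odd n) (hcc : ∀ C : Subgroup S, (∀ s, s ∈ C ↔ φ s = s) → ∃ T : Subgroup C, IsCC T ∧ IsCyclic T ∧
      Nat.card T = n ∧ ∃ x ∈ T, orderOf x = 5 ∧ ∀ k : ℕ, ¬ 5 ∣ k → IsConj x (x ^ k))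
    (hst : ∀ (A : Type u) [Group A] [Fintype A] (f : S →* A) (ψ : A →* MulAut S), (∀ s, ψ (f s) = MulAut.conj s) →
      ∀ x : A, ψ x = φ → ∃ th : A → ℤ, IsIrrCharacter A (fun a => (th a : ℂ)) ∧ Even (th x) ∧ th x % 3 = 1 ∧
        ∀ t : S, φ t = t → t ≠ 1 → orderOf t ∣ n → th (x * f t) = 1) : RatInv S ⊤ := by
  classical
  have hp5 : Fact (Nat.Prime 5) := ⟨Nat.prime_five⟩
  have := Fintype.ofFinite S
  have hfinA : Finite (MulAut S) := Finite.of_injective (fun e : MulAut S => (e : S → S)) DFunLike.coe_injective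
  have hNn : ((MulAut.conj : S →* MulAut S).range).Normal := by
    refine ⟨?_⟩
    rintro _ ⟨s, rfl⟩ a
    exact ⟨a s, by
      ext y
      simp [MulAut.conj_apply, MulAut.mul_apply, map_mul, map_inv]⟩
  set N := (MulAut.conj : S →* MulAut S).range with hN
  set A := ext2 N φ h2 with hA
  have := Fintype.ofFinite A
  have hcinj : Function.Injective (MulAut.conj : S →* MulAut S) := by
    rw [injective_iff_map_eq_one]
    intro s hs
    rw [← Subgroup.mem_bot, ← hc, Subgroup.mem_center_iff]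
    intro g
    have h1 : MulAut.conj s g = g := by rw [hs]; rfl
    rw [MulAut.conj_apply] at h1
    exact (mul_inv_eq_iff_eq_mul.1 h1).symm
  let f : S →* A := (MulAut.conj : S →* MulAut S).codRestrict A fun s => Or.inl ⟨s, rfl⟩
  have hfv : ∀ s, ((f s : A) : MulAut S) = MulAut.conj s := fun _ => rfl
  have hf : Function.Injective f := fun a b h => hcinj (by rw [← hfv, ← hfv, h])
  let x₀ : A := ⟨φ, Or.inr (by rw [h2]; exact one_mem N)⟩
  have hx2 : x₀ * x₀ = 1 := Subtype.ext h2
  have hrange : ∀ a : A, a ∈ f.range ↔ (a : MulAut S) ∈ N := by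
    intro a
    constructor
    · rintro ⟨s, rfl⟩
      exact ⟨s, rfl⟩
    · rintro ⟨s, hs⟩
      exact ⟨s, Subtype.ext hs⟩
  have hx : x₀ ∉ f.range := fun h => hφ ((hrange _).1 h)
  have hi : f.range.index = 2 := by
    rw [Subgroup.index_eq_two_iff]
    refine ⟨x₀, fun b => ?_⟩
    rw [hrange, hrange]
    have hb := b.2
    by_cases h : (b : MulAut S) ∈ N
    · refine Or.inr ⟨h, fun h3 => hφ ?_⟩
      have h4 := mul_mem (inv_mem h) h3
      rwa [Subgroup.coe_mul, inv_mul_cancel_left] at h4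
    · refine Or.inl ⟨?_, h⟩
      rcases hb with hb | hb
      · exact absurd hb h
      · exact hb
  have hCS : ∀ s, s ∈ CS f x₀ ↔ φ s = s := by
    intro s
    rw [mem_CS]
    constructor
    · intro h
      have h1 : MulAut.conj s * φ = φ * MulAut.conj s := congrArg Subtype.val h
      have h3 : φ * MulAut.conj s * φ⁻¹ = MulAut.conj (φ s) := by
        ext y
        simp [MulAut.conj_apply, MulAut.mul_apply, map_mul, map_inv]
      rw [← h1, mul_inv_cancel_right] at h3
      exact (hcinj h3).symm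
    · intro h
      apply Subtype.ext
      show MulAut.conj s * φ = φ * MulAut.conj s
      ext y
      simp [MulAut.conj_apply, MulAut.mul_apply, map_mul, map_inv, h]
  obtain ⟨T, hT, hcyc, hTn, x, hxT, hxo, hk⟩ := hcc (CS f x₀) hCS
  have := Fintype.ofFinite (CS f x₀)
  obtain ⟨Ψ, hΨ, hrat, hΨ1, hvan, hin, hnorm, haut⟩ :=
    H907.R2.exists_psi_aut hT hcyc Nat.prime_five hxT hxo hk
  have ho : ∀ t ∈ T, orderOf t ∣ n := by
    intro t ht
    rw [← hTn, ← Subgroup.orderOf_mk t ht]
    exact orderOf_dvd_natCard _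
  let ψ : A →* MulAut S := A.subtype
  obtain ⟨th, hth, hN2, hN3, hT1⟩ := hst A f ψ (fun s => rfl) x₀ rfl
  refine ratInv_of_coset (T := T) hf hi hx2 hx hΨ hrat ?_ ?_ ?_ hΨ1 hth hN2 hN3 ?_ ?_
  · -- elements of even order
    intro c hc'
    refine hvan c fun z _ hzT hz => hc' ?_
    obtain ⟨g, hg⟩ := isConj_iff.1 hz
    have h1 : orderOf c = orderOf z := by
      rw [← hg]
      exact orderOf_injective (MulAut.conj g).toMonoidHom (MulAut.conj g).injective z
    rw [h1]
    exact hn.of_dvd_nat (ho z hzT)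
  · intro θ hθ h1
    rw [hin θ 1 hθ h1, map_one]
  · rw [hnorm]
    norm_num
  · intro t ht ht1
    refine hT1 t ((hCS _).1 t.2) (fun h => ht1 (Subtype.ext h)) ?_
    rw [Subgroup.orderOf_coe]
    exact ho t ht
  · -- the automorphisms
    intro b _
    obtain ⟨s, hs⟩ := hconj b
    obtain ⟨b', hb'⟩ : ∃ b' : MulAut S, b' = (MulAut.conj s)⁻¹ * b := ⟨_, rfl⟩
    have hcomm : b' * φ * b'⁻¹ = φ := by
      rw [hb', mul_inv_rev, inv_inv]
      calc (MulAut.conj s)⁻¹ * b * φ * (b⁻¹ * MulAut.conj s) = (MulAut.conj s)⁻¹ * (b * φ * b⁻¹) * MulAut.conj s := by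
            group
        _ = (MulAut.conj s)⁻¹ * (MulAut.conj s * φ * (MulAut.conj s)⁻¹) * MulAut.conj s := by rw [hs]
        _ = φ := by group
    have hcomm' : b' * φ = φ * b' := mul_inv_eq_iff_eq_mul.1 hcomm
    have hcomm'' : b'⁻¹ * φ = φ * b'⁻¹ := by
      rw [inv_mul_eq_iff_eq_mul, ← mul_assoc, hcomm', mul_inv_cancel_right]
    have hst1 : ∀ a ∈ A, b' * a * b'⁻¹ ∈ A := by
      rintro a (ha | ha)
      · exact Or.inl (hNn.conj_mem a ha b')
      · refine Or.inr ?_
        have := hNn.conj_mem _ ha b'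
        rwa [show b' * (a * φ) * b'⁻¹ = b' * a * b'⁻¹ * φ by
          rw [mul_assoc (b' * a), hcomm'', ← mul_assoc, ← mul_assoc]] at this
    have hst2 : ∀ a ∈ A, b'⁻¹ * a * b' ∈ A := by
      rintro a (ha | ha)
      · have := hNn.conj_mem a ha b'⁻¹
        rw [inv_inv] at this
        exact Or.inl this
      · refine Or.inr ?_
        have := hNn.conj_mem _ ha b'⁻¹
        rw [inv_inv] at this
        rwa [show b'⁻¹ * (a * φ) * b' = b'⁻¹ * a * b' * φ by
          rw [mul_assoc (b'⁻¹ * a), hcomm', ← mul_assoc, ← mul_assoc]] at this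
    let β : MulAut A :=
      { toFun := fun a => ⟨b' * a * b'⁻¹, hst1 a a.2⟩
        invFun := fun a => ⟨b'⁻¹ * a * b', hst2 a a.2⟩
        left_inv := fun a => Subtype.ext (by show b'⁻¹ * (b' * a * b'⁻¹) * b' = a; group)
        right_inv := fun a => Subtype.ext (by show b' * (b'⁻¹ * a * b') * b'⁻¹ = a; group)
        map_mul' := fun a a' => Subtype.ext (by
          show b' * (a * a') * b'⁻¹ = b' * a * b'⁻¹ * (b' * a' * b'⁻¹); group) }
    have hβ : ∀ y, β (f y) = f (b' y) := by
      intro y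
      apply Subtype.ext
      show b' * MulAut.conj y * b'⁻¹ = MulAut.conj (b' y)
      ext z
      show b' (y * b'⁻¹ z * y⁻¹) = b' y * z * (b' y)⁻¹
      rw [map_mul, map_mul, map_inv, MulAut.apply_inv_self]
    refine ⟨s⁻¹, β, fun y => ?_, Subtype.ext hcomm, ?_⟩
    · rw [hβ, hb', MulAut.mul_apply]
      congr 1
      rw [← map_inv, MulAut.conj_apply]
    · -- `Ψ`
      have hb'C : ∀ c : S, c ∈ CS f x₀ → b' c ∈ CS f x₀ := by
        intro c hc'
        rw [hCS] at hc' ⊢
        have h1 : (φ * b') c = (b' * φ) c := by rw [hcomm']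
        rw [MulAut.mul_apply, MulAut.mul_apply, hc'] at h1
        exact h1
      have hb'C' : ∀ c : S, c ∈ CS f x₀ → b'⁻¹ c ∈ CS f x₀ := by
        intro c hc'
        rw [hCS] at hc' ⊢
        have h1 : (φ * b'⁻¹) c = (b'⁻¹ * φ) c := by rw [hcomm'']
        rw [MulAut.mul_apply, MulAut.mul_apply, hc'] at h1
        exact h1
      let bC : MulAut (CS f x₀) :=
        { toFun := fun c => ⟨b' c, hb'C c c.2⟩
          invFun := fun c => ⟨b'⁻¹ c, hb'C' c c.2⟩
          left_inv := fun c => Subtype.ext (MulAut.inv_apply_self S b' c)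
          right_inv := fun c => Subtype.ext (MulAut.apply_inv_self S b' c)
          map_mul' := fun c c' => Subtype.ext (map_mul b' (c : S) c') }
      obtain ⟨g, hg⟩ := exists_conj_le hT hxT hxo bC
      intro c c' hcc'
      have h1 : c' = bC c := by
        apply Subtype.ext
        apply hf
        rw [hcc', hβ]
        rfl
      rw [h1]
      exact haut bC g hg c

end

end Cfsg.Agent.H48.R2
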