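import Cfsg.Agent.H48.R2.Coset

/-!
# S4829, `Row2` for `Sp₄(2^f)`, `f = 2 mod 4`: the abstract conclusion (helper48)

`gg` has norm ten: up to the sign character it is `1`, the extension `th` of the Steinberg character and three further
characters, of values `v` at `x₀` with `1 + th(x₀) + ∑ v = 0`; `th(x₀)` is even and `1` modulo `3`.
-/

set_option autoImplicit false

namespace Cfsg.Agent.H48.R2

open Cfsg Cfsg.Agent.Characters.Core Cfsg.Agent.Characters Cfsg.Agent.H636.Gow Cfsg.Agent.H770.CY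
open Cfsg.Agent.H707.OddLift Cfsg.Agent.H226.R2
open scoped ComplexConjugate

universe u v

section

variable {S : Type u} {A : Type v} [Group S] [Group A] [Fintype S] [Fintype A] {f : S →* A}
  (hf : Function.Injective f) (hi : f.range.index = 2)

/-- sums over the two cosets -/
theorem sum_eps (hf : Function.Injective f) (F : A → ℂ) :
    ∑ a, (1 + (eps hi a : ℂ)) * F a = 2 * ∑ s, F (f s) := by
  classical
  have h1 : ∀ a, (1 + (eps hi a : ℂ)) * F a = if a ∈ f.range then 2 * F a else 0 := by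
    intro a
    by_cases ha : a ∈ f.range
    · rw [if_pos ha, eps_of_mem hi ha, Units.val_one]; ring
    · rw [if_neg ha, eps_of_not hi ha, Units.val_neg, Units.val_one]; ring
  rw [Finset.sum_congr rfl fun a _ => h1 a, ← Finset.sum_filter, Finset.mul_sum]
  have h2 : Finset.univ.filter (fun a => a ∈ f.range) = Finset.univ.image f := by
    ext a
    simp only [Finset.mem_filter, Finset.mem_univ, true_and, Finset.mem_image, MonoidHom.mem_range]
  rw [h2, Finset.sum_image fun a _ b _ h => hf h]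

/-- inner products of restrictions -/
theorem inner_restr (hf : Function.Injective f) (χ ψ : A → ℂ) :
    classInner (fun s => χ (f s)) (fun s => ψ (f s)) =
      classInner χ ψ + classInner (fun a => (eps hi a : ℂ) * χ a) ψ := by
  have h1 : Nat.card A = 2 * Nat.card S := by
    rw [← f.range.card_mul_index, hi, mul_comm, Nat.card_congr (MonoidHom.ofInjective hf).toEquiv]
  have h2 := sum_eps hi hf (fun a => χ a * conj (ψ a))
  have h3 : (Nat.card S : ℂ) ≠ 0 := Nat.cast_ne_zero.2 Nat.card_pos.ne'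
  unfold classInner
  rw [← mul_add, ← Finset.sum_add_distrib]
  have h4 : ∑ a, (χ a * conj (ψ a) + (eps hi a : ℂ) * χ a * conj (ψ a)) =
      ∑ a, (1 + (eps hi a : ℂ)) * (χ a * conj (ψ a)) :=
    Finset.sum_congr rfl fun a _ => by ring
  rw [h4, h2, h1]
  push_cast
  field_simp

/-- multiplication by the sign -/
noncomputable def tws (χ : IrrCharacter A) : IrrCharacter A :=
  ⟨fun a => (eps hi a : ℂ) * (χ : A → ℂ) a, by
    have h1 : IsCharacter A ((fun a => (eps hi a : ℂ)) * (χ : A → ℂ)) :=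
      isCharacter_mul (Brauer.isCharacter_of_monoidHom ((Units.coeHom ℂ).comp (eps hi))) (isIrr_isCharacter χ.2)
    refine isIrr_of_classInner_self h1 ?_
    rw [← classInner_irr_self χ.2]
    unfold classInner
    congr 1
    refine Finset.sum_congr rfl fun a _ => ?_
    show ((eps hi a : ℂ) * (χ : A → ℂ) a) * conj ((eps hi a : ℂ) * (χ : A → ℂ) a) = _
    by_cases ha : a ∈ f.range
    · rw [eps_of_mem hi ha, Units.val_one, one_mul]
    · rw [eps_of_not hi ha, Units.val_neg, Units.val_one]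
      simp⟩

theorem tws_apply (χ : IrrCharacter A) (a : A) : (tws hi χ : A → ℂ) a = (eps hi a : ℂ) * (χ : A → ℂ) a := rfl

omit [Fintype S] [Fintype A] in
theorem eps_mul_self (a : A) : (eps hi a : ℂ) * (eps hi a : ℂ) = 1 := by
  by_cases ha : a ∈ f.range
  · rw [eps_of_mem hi ha, Units.val_one, one_mul]
  · rw [eps_of_not hi ha, Units.val_neg, Units.val_one]
    ring

theorem tws_tws (χ : IrrCharacter A) : tws hi (tws hi χ) = χ := by
  apply Subtype.ext
  funext a
  rw [tws_apply, tws_apply, ← mul_assoc, eps_mul_self, one_mul]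

attribute [local instance] H707.Orbits.irrAction

/-- **The conclusion.** -/
theorem ratInv_of_coset (hf : Function.Injective f) (hi : f.range.index = 2) {x₀ : A} (hx2 : x₀ * x₀ = 1) (hx : x₀ ∉ f.range) [Fintype (CS f x₀)]
    {T : Subgroup (CS f x₀)} {Ψ : CS f x₀ → ℂ} (hΨ : IsGeneralizedCharacter (CS f x₀) Ψ)
    (hr : ∀ c, ∃ q : ℚ, Ψ c = q) (hV : ∀ c : CS f x₀, ¬ Odd (orderOf c) → Ψ c = 0)
    (hI : ∀ θ : CS f x₀ → ℂ, IsClassFunction (CS f x₀) θ → (∀ a ∈ T, a ≠ 1 → θ a = 1) → classInner Ψ θ = -1)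
    (hN : classInner Ψ Ψ = 5) (hΨ1 : Ψ 1 = 0)
    {th : A → ℤ} (hth : IsIrrCharacter A (fun a => (th a : ℂ))) (hN2 : Even (th x₀)) (hN3 : th x₀ % 3 = 1)
    (hT : ∀ t ∈ T, t ≠ 1 → th (x₀ * f (t : S)) = 1) {Γ : Subgroup (MulAut S)}
    (hΓ : ∀ b ∈ Γ, ∃ (s : S) (β : MulAut A), (∀ y, β (f y) = f (s * b y * s⁻¹)) ∧ β x₀ = x₀ ∧
      ∀ c c' : CS f x₀, f (c' : S) = β (f (c : S)) → Ψ c' = Ψ c) : RatInv S Γ := by
  classical
  have hfinI : Finite (IrrCharacter A) := finite_irr
  have := Fintype.ofFinite (IrrCharacter A)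
  set g := gg hf hi hx2 hx Ψ with hg
  have hgen : IsGeneralizedCharacter A g := isGen_gg hf hi hx2 hx hΨ
  obtain ⟨m, hm⟩ := isGeneralizedCharacter_iff.1 hgen
  have hmi : ∀ χ : IrrCharacter A, (m χ : ℂ) = classInner Ψ (fun c : CS f x₀ => (χ : A → ℂ) (x₀ * f c)) := by
    intro χ
    rw [← H707.Norm.coeff_eq hm χ, inner_gg hf hi hx2 hx (isIrr_isClassFunction χ.2)]
  -- the value at `x₀`
  have hval : ∀ χ : IrrCharacter A, ∃ (v : ℤ) (d : ℕ), (χ : A → ℂ) x₀ = v ∧ (χ : A → ℂ) 1 = d ∧ (Odd v ↔ Odd d) := by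
    intro χ
    obtain ⟨n, ρ, hρ, hρχ⟩ := id χ.2
    obtain ⟨k, -, hk, -⟩ := SmallSimple.DihedralNormalizerSimple.exists_of_involution ρ x₀ hx2
    refine ⟨n - 2 * k, n, ?_, ?_, ?_⟩
    · rw [← hρχ, hk]; push_cast; rfl
    · rw [← hρχ]; simp
    · rw [Int.odd_sub, Int.odd_coe_nat]
      have : ¬ Odd (2 * (k : ℤ)) := by rw [Int.not_odd_iff_even]; exact even_two_mul _
      constructor
      · intro h; exact h.2 (by rwa [Int.not_odd_iff_even] at this)
      · intro h; exact ⟨fun _ => by rwa [Int.not_odd_iff_even] at this, fun _ => h⟩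
  choose v d hv hd hvd using hval
  -- the sign
  have hmt : ∀ χ, m (tws hi χ) = - m χ := by
    intro χ
    have h1 : (m (tws hi χ) : ℂ) = - (m χ : ℂ) := by
      rw [hmi, hmi]
      unfold classInner
      rw [← mul_neg, ← Finset.sum_neg_distrib]
      congr 1
      refine Finset.sum_congr rfl fun c _ => ?_
      have h2 : (eps hi (x₀ * f (c : S)) : ℂˣ) = -1 := eps_of_not hi (ja_not hx c)
      beta_reduce
      rw [tws_apply, h2, Units.val_neg, Units.val_one]
      simp
    exact_mod_cast h1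
  have hvt : ∀ χ, v (tws hi χ) = - v χ := by
    intro χ
    have h1 : (v (tws hi χ) : ℂ) = - (v χ : ℂ) := by
      rw [← hv, ← hv, tws_apply, eps_of_not hi hx, Units.val_neg, Units.val_one]
      ring
    exact_mod_cast h1
  let E : IrrCharacter A ≃ IrrCharacter A := ⟨tws hi, tws hi, tws_tws hi, tws_tws hi⟩
  -- the sums
  have hsq : ∑ χ, m χ ^ 2 = 10 := by
    refine H707.Norm.sum_sq hm (n := 10) ?_
    rw [hg, norm_gg hf hi hx2 hx hΨ hV, hN]
    norm_num
  have hzero : ∑ χ, m χ * v χ = 0 := by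
    have h1 : g x₀ = 0 := by
      have h2 := gg_coset hf hi hx2 hx hΨ hV (c := 1) (by rw [orderOf_one]; exact odd_one)
      rw [hΨ1, mul_zero] at h2
      have h3 : x₀ * f ((1 : CS f x₀) : S) = x₀ := by
        rw [OneMemClass.coe_one, map_one, mul_one]
      rwa [h3] at h2
    have h2 : g x₀ = ((∑ χ, m χ * v χ : ℤ) : ℂ) := by
      conv_lhs => rw [hm]
      rw [Finset.sum_apply]
      push_cast
      refine Finset.sum_congr rfl fun χ _ => ?_
      rw [Pi.smul_apply, zsmul_eq_mul, hv]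
    rw [h1] at h2
    exact_mod_cast h2.symm
  set P := Finset.univ.filter (fun χ : IrrCharacter A => m χ < 0) with hP
  have hmP : ∀ χ, χ ∈ P ↔ m χ < 0 := fun χ => by rw [hP, Finset.mem_filter]; simp
  have hsplit : ∀ F : IrrCharacter A → ℤ, (∀ χ, m χ = 0 → F χ = 0) → (∀ χ, F (tws hi χ) = F χ) →
      ∑ χ, F χ = 2 * ∑ χ ∈ P, F χ := by
    intro F h0 hF
    rw [← Finset.sum_filter_add_sum_filter_not Finset.univ (fun χ => m χ < 0)]
    have h1 : ∑ χ ∈ Finset.univ.filter (fun χ => ¬ m χ < 0), F χ = ∑ χ ∈ P, F χ := by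
      rw [← Finset.sum_filter_add_sum_filter_not (Finset.univ.filter (fun χ => ¬ m χ < 0)) (fun χ => m χ = 0)]
      have h2 : ∑ χ ∈ (Finset.univ.filter (fun χ => ¬ m χ < 0)).filter (fun χ => m χ = 0), F χ = 0 :=
        Finset.sum_eq_zero fun χ hχ => h0 χ (Finset.mem_filter.1 hχ).2
      rw [h2, zero_add]
      refine Finset.sum_bij' (fun χ _ => tws hi χ) (fun χ _ => tws hi χ) ?_ ?_ ?_ ?_ ?_
      · intro χ hχ
        rw [Finset.mem_filter, Finset.mem_filter] at hχ
        rw [hmP, hmt]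
        omega
      · intro χ hχ
        rw [hmP] at hχ
        rw [Finset.mem_filter, Finset.mem_filter, hmt]
        refine ⟨⟨Finset.mem_univ _, ?_⟩, ?_⟩ <;> omega
      · intro χ _; exact tws_tws hi χ
      · intro χ _; exact tws_tws hi χ
      · intro χ _; exact (hF χ).symm
    rw [h1, ← hP, two_mul]
  have hsqP : ∑ χ ∈ P, m χ ^ 2 = 5 := by
    have h1 := hsplit (fun χ => m χ ^ 2) (fun χ h => by simp [h]) (fun χ => by simp only [hmt]; ring)
    rw [hsq] at h1
    omega
  have hzP : ∑ χ ∈ P, m χ * v χ = 0 := by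
    have h1 := hsplit (fun χ => m χ * v χ) (fun χ h => by simp [h]) (fun χ => by simp only [hmt, hvt]; ring)
    rw [hzero] at h1
    omega
  -- the two known characters
  let c1 : IrrCharacter A := ⟨1, isIrr_one⟩
  let cs : IrrCharacter A := ⟨fun a => (th a : ℂ), hth⟩
  have hm1 : m c1 = -1 := by
    have h1 : (m c1 : ℂ) = -1 := by
      rw [hmi]
      exact hI _ (fun _ _ => rfl) fun _ _ _ => rfl
    exact_mod_cast h1
  have hms : m cs = -1 := by
    have h1 : (m cs : ℂ) = -1 := by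
      rw [hmi]
      refine hI _ (fun a b => ?_) fun t ht ht1 => ?_
      · have h2 : x₀ * f ((b * a * b⁻¹ : CS f x₀) : S) = f b * (x₀ * f a) * (f b)⁻¹ := by
          have hb := (mem_CS f x₀).1 b.2
          rw [Subgroup.coe_mul, Subgroup.coe_mul, Subgroup.coe_inv, map_mul, map_mul, map_inv, ← mul_assoc, ← mul_assoc,
            ← mul_assoc, hb]
        rw [h2]
        exact isIrr_isClassFunction hth _ _
      · show ((th (x₀ * f (t : S)) : ℤ) : ℂ) = 1
        rw [hT t ht ht1, Int.cast_one]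
    exact_mod_cast h1
  have hv1 : v c1 = 1 := by
    have h1 : (v c1 : ℂ) = 1 := by rw [← hv]; rfl
    exact_mod_cast h1
  have hvs : v cs = th x₀ := by
    have h1 : (v cs : ℂ) = (th x₀ : ℂ) := by rw [← hv]
    exact_mod_cast h1
  have hne : c1 ≠ cs := by
    intro h
    rw [h, hvs] at hv1
    rw [hv1] at hN2
    exact absurd hN2 (by decide)
  set Q := (P.erase c1).erase cs with hQ
  have hc1P : c1 ∈ P := (hmP _).2 (by rw [hm1]; norm_num)
  have hcsP : cs ∈ P.erase c1 := Finset.mem_erase.2 ⟨hne.symm, (hmP _).2 (by rw [hms]; norm_num)⟩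
  have hmQ : ∀ χ, χ ∈ Q ↔ χ ≠ cs ∧ χ ≠ c1 ∧ m χ < 0 := fun χ => by
    rw [hQ, Finset.mem_erase, Finset.mem_erase, hmP]
  have hsum : ∀ F : IrrCharacter A → ℤ, ∑ χ ∈ P, F χ = F c1 + (F cs + ∑ χ ∈ Q, F χ) := fun F => by
    rw [hQ, Finset.add_sum_erase _ _ hcsP, Finset.add_sum_erase _ _ hc1P]
  have hsqQ : ∑ χ ∈ Q, m χ ^ 2 = 3 := by
    have h1 := hsum (fun χ => m χ ^ 2)
    rw [hsqP, hm1, hms] at h1
    omega
  have hmQ1 : ∀ χ ∈ Q, m χ = -1 := by
    intro χ hχ
    have h1 : m χ ^ 2 ≤ 3 := by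
      rw [← hsqQ]
      exact Finset.single_le_sum (f := fun χ => m χ ^ 2) (fun _ _ => sq_nonneg _) hχ
    have h2 := ((hmQ χ).1 hχ).2.2
    nlinarith
  have hcard : Q.card = 3 := by
    have h1 : ∑ χ ∈ Q, m χ ^ 2 = ∑ χ ∈ Q, 1 := Finset.sum_congr rfl fun χ hχ => by rw [hmQ1 χ hχ]; norm_num
    rw [hsqQ, Finset.sum_const, nsmul_eq_mul, mul_one] at h1
    exact_mod_cast h1.symm
  have hsv : 1 + th x₀ + ∑ χ ∈ Q, v χ = 0 := by
    have h1 := hsum (fun χ => m χ * v χ)
    have h2 : ∑ χ ∈ Q, m χ * v χ = - ∑ χ ∈ Q, v χ := by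
      rw [← Finset.sum_neg_distrib]
      exact Finset.sum_congr rfl fun χ hχ => by rw [hmQ1 χ hχ]; ring
    rw [hzP, hm1, hms, hv1, hvs, h2] at h1
    omega
  obtain ⟨χ, hχQ, hodd, huniq⟩ := select hcard v hN2 hN3 hsv
  obtain ⟨hχs, hχ1, hχm⟩ := (hmQ χ).1 hχQ
  -- recognition
  have hrec : ∀ ψ : IrrCharacter A, m ψ = m χ → (ψ : A → ℂ) x₀ = (χ : A → ℂ) x₀ → (ψ : A → ℂ) ≠ 1 → ψ = χ := by
    intro ψ h1 h2 h3
    have h4 : v ψ = v χ := by
      rw [hv, hv] at h2
      exact_mod_cast h2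
    refine huniq ψ ((hmQ ψ).2 ⟨?_, ?_, by rw [h1]; exact hχm⟩) h4
    · rintro rfl
      rw [hvs] at h4
      rw [← h4] at hodd
      exact (Int.not_odd_iff_even.2 hN2) hodd
    · rintro rfl
      exact h3 rfl
  have hχ1' : (χ : A → ℂ) ≠ 1 := fun h => hχ1 (Subtype.ext h)
  have htne : tws hi χ ≠ χ := by
    intro h
    have h1 := hmt χ
    rw [h] at h1
    omega
  have htne1 : tws hi χ ≠ c1 := by
    intro h
    have h1 := hmt χ
    rw [h, hm1] at h1
    omega
  have hrat : ∀ a : A, ∃ q : ℚ, (χ : A → ℂ) a = q := by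
    intro a
    apply GaloisBasic.exists_rat_of_forall_ringEquiv
    · exact (GaloisBasic.isIntegral_apply (isIrr_isCharacter χ.2) a).tower_top
    · intro σ
      have h1 : σ • χ = χ := by
        refine hrec _ (H707.Norm.coeff_smul hm (rat_gg hf hi hx2 hx hr) σ χ) ?_ ?_
        · rw [H707.Orbits.smul_apply, hv, map_intCast]
        · intro h
          apply hχ1'
          funext a
          apply σ.injective
          rw [← H707.Orbits.smul_apply, h, Pi.one_apply, map_one]
      exact congrFun (congrArg Subtype.val h1) a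
  refine ⟨fun s => (χ : A → ℂ) (f s), ?_, ?_, ?_, fun s => hrat _, ?_⟩
  · refine isIrr_of_classInner_self (isCharacter_comp f (isIrr_isCharacter χ.2)) ?_
    show classInner (fun s => (χ : A → ℂ) (f s)) (fun s => (χ : A → ℂ) (f s)) = 1
    rw [inner_restr hi hf, classInner_irr_self χ.2]
    have h1 : classInner (fun a => (eps hi a : ℂ) * (χ : A → ℂ) a) (χ : A → ℂ) = 0 :=
      classInner_irr_ne (tws hi χ).2 χ.2 fun h => htne (Subtype.ext h)
    rw [h1, add_zero]
  · intro h
    have h1 := inner_restr hi hf (χ : A → ℂ) 1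
    have h2 : classInner (fun s => (χ : A → ℂ) (f s)) (fun s => (1 : A → ℂ) (f s)) = 1 := by
      rw [h]
      exact classInner_irr_self isIrr_one
    have h3 : classInner (fun a => (eps hi a : ℂ) * (χ : A → ℂ) a) (1 : A → ℂ) = 0 :=
      classInner_irr_ne (tws hi χ).2 isIrr_one fun h => htne1 (Subtype.ext h)
    rw [h2, classInner_irr_ne χ.2 isIrr_one hχ1', h3, add_zero] at h1
    exact one_ne_zero h1
  · refine ⟨d χ, (hvd χ).1 hodd, ?_⟩
    show (χ : A → ℂ) (f 1) = d χ
    rw [map_one, hd]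
  · intro b hb y
    obtain ⟨s, β, hβ, hβx, hβΨ⟩ := hΓ b hb
    let χ' : IrrCharacter A := ⟨(χ : A → ℂ) ∘ (β : A →* A), isIrr_comp (β : A →* A) β.surjective χ.2⟩
    have hχ' : ∀ a, (χ' : A → ℂ) a = (χ : A → ℂ) (β a) := fun _ => rfl
    -- the action on `C`
    have hC : ∀ c : CS f x₀, ∃ c' : CS f x₀, f (c' : S) = β (f (c : S)) := by
      intro c
      refine ⟨⟨s * b c * s⁻¹, ?_⟩, (hβ c).symm⟩
      rw [mem_CS, ← hβ]
      have h1 := congrArg β ((mem_CS f x₀).1 c.2)
      rwa [map_mul, map_mul, hβx] at h1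
    choose π hπ using hC
    have hπinj : Function.Injective π := by
      intro a b h
      have h1 : β (f (a : S)) = β (f (b : S)) := by rw [← hπ, ← hπ, h]
      exact Subtype.ext (hf (β.injective h1))
    have hπb : Function.Bijective π := Finite.injective_iff_bijective.1 hπinj
    have hmχ' : m χ' = m χ := by
      have h1 : (m χ' : ℂ) = (m χ : ℂ) := by
        rw [hmi, hmi]
        unfold classInner
        congr 1
        refine Fintype.sum_bijective π hπb _ _ fun c => ?_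
        beta_reduce
        rw [hβΨ c (π c) (hπ c), hχ', map_mul, hβx, hπ]
      exact_mod_cast h1
    have h2 : χ' = χ := by
      refine hrec χ' hmχ' (by rw [hχ', hβx]) ?_
      intro h
      apply hχ1'
      funext a
      obtain ⟨a', rfl⟩ := β.surjective a
      rw [← hχ', h]
      rfl
    have h3 : (χ : A → ℂ) (β (f y)) = (χ : A → ℂ) (f y) := by
      rw [← hχ', h2]
    show (χ : A → ℂ) (f (b y)) = (χ : A → ℂ) (f y)
    rw [← h3, hβ, map_mul, map_mul, map_inv]
    exact (isIrr_isClassFunction χ.2 _ _).symm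

end

end Cfsg.Agent.H48.R2
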