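import Cfsg.Agent.H226.R2.Base
import Cfsg.Agent.H646.ProjLat
import Cfsg.Agent.SmallSimple.DihedralNormalizerSimple

/-!
# S4829, `Row2` for `Sp₄(2^f)`, `f = 2 mod 4`: the coset of a field involution, character theory (helper48)

`S` of index two in `A`, `x₀` an involution of `A` outside `S`, `C = C_S(x₀)`, `Ψ` a generalized character of `C` which
vanishes on elements of even order.  The class function `gg` of `A` with value `2 Ψ(c)` on `x₀ c` (`c` of odd order)
and `0` elsewhere is a generalized character, with `[gg, θ] = [Ψ, c ↦ θ(x₀ c)]`.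
-/

set_option autoImplicit false

namespace Cfsg.Agent.H48.R2

open Cfsg Cfsg.Agent.Characters.Core Cfsg.Agent.Characters Cfsg.Agent.H636.Gow Cfsg.Agent.H770.CY
open Cfsg.Agent.H707.OddLift Cfsg.Agent.H226.R2
open scoped ComplexConjugate

universe u v

/-- selection in a set of three elements -/
theorem select {α : Type*} {T : Finset α} (hT : T.card = 3) (v : α → ℤ) {N : ℤ} (hN2 : Even N) (hN3 : N % 3 = 1)
    (hs : 1 + N + ∑ i ∈ T, v i = 0) : ∃ i ∈ T, Odd (v i) ∧ ∀ j ∈ T, v j = v i → j = i := by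
  classical
  obtain ⟨a, b, c, hab, hac, hbc, rfl⟩ := Finset.card_eq_three.1 hT
  rw [Finset.sum_insert (by simp [hab, hac]), Finset.sum_insert (by simp [hbc]), Finset.sum_singleton] at hs
  rw [Int.even_iff] at hN2
  by_cases h1 : Odd (v a) ∧ v a ≠ v b ∧ v a ≠ v c
  · refine ⟨a, by simp, h1.1, fun j hj e => ?_⟩
    simp only [Finset.mem_insert, Finset.mem_singleton] at hj
    rcases hj with rfl | rfl | rfl
    · rfl
    · exact absurd e.symm h1.2.1
    · exact absurd e.symm h1.2.2
  by_cases h2 : Odd (v b) ∧ v b ≠ v a ∧ v b ≠ v c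
  · refine ⟨b, by simp, h2.1, fun j hj e => ?_⟩
    simp only [Finset.mem_insert, Finset.mem_singleton] at hj
    rcases hj with rfl | rfl | rfl
    · exact absurd e.symm h2.2.1
    · rfl
    · exact absurd e.symm h2.2.2
  by_cases h3 : Odd (v c) ∧ v c ≠ v a ∧ v c ≠ v b
  · refine ⟨c, by simp, h3.1, fun j hj e => ?_⟩
    simp only [Finset.mem_insert, Finset.mem_singleton] at hj
    rcases hj with rfl | rfl | rfl
    · exact absurd e.symm h3.2.1
    · exact absurd e.symm h3.2.2
    · rfl
  exfalso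
  simp only [Int.odd_iff] at h1 h2 h3
  omega

section

variable {S : Type u} {A : Type v} [Group S] [Group A] (f : S →* A) (x₀ : A)

/-- the centralizer of `x₀` in `S` -/
def CS : Subgroup S := (Subgroup.centralizer ({x₀} : Set A)).comap f

theorem mem_CS {s : S} : s ∈ CS f x₀ ↔ f s * x₀ = x₀ * f s := by
  unfold CS
  rw [Subgroup.mem_comap, Subgroup.mem_centralizer_singleton_iff]

variable {f x₀} (hf : Function.Injective f) (hi : f.range.index = 2) (hx2 : x₀ * x₀ = 1) (hx : x₀ ∉ f.range)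

open Classical in
/-- the sign -/
noncomputable def eps (hi : f.range.index = 2) : A →* ℂˣ :=
  MonoidHom.mk' (fun a => if a ∈ f.range then 1 else -1) fun a b => by
    have h := Subgroup.mul_mem_iff_of_index_two hi (a := a) (b := b)
    by_cases ha : a ∈ f.range <;> by_cases hb : b ∈ f.range <;> simp [h, ha, hb]

theorem eps_of_mem {a : A} (ha : a ∈ f.range) : eps hi a = 1 := if_pos ha

theorem eps_of_not {a : A} (ha : a ∉ f.range) : eps hi a = -1 := if_neg ha

open Classical in
/-- the retraction of `C_A(x₀)` on `C_A(x₀) ∩ S` -/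
noncomputable def ret (hi : f.range.index = 2) (hx2 : x₀ * x₀ = 1) (hx : x₀ ∉ f.range) :
    Subgroup.centralizer ({x₀} : Set A) →* f.range :=
  MonoidHom.mk' (fun d => if h : (d : A) ∈ f.range then ⟨d, h⟩ else
    ⟨x₀ * d, (Subgroup.mul_mem_iff_of_index_two hi).2 ⟨fun h1 => absurd h1 hx, fun h1 => absurd h1 h⟩⟩) fun a b => by
    have h := Subgroup.mul_mem_iff_of_index_two hi (a := (a : A)) (b := (b : A))
    have hca : (a : A) * x₀ = x₀ * a := Subgroup.mem_centralizer_singleton_iff.1 a.2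
    by_cases ha : (a : A) ∈ f.range <;> by_cases hb : (b : A) ∈ f.range
    · have h1 : ((a * b : Subgroup.centralizer ({x₀} : Set A)) : A) ∈ f.range := h.2 (by simp [ha, hb])
      rw [dif_pos h1, dif_pos ha, dif_pos hb]
      rfl
    · have h1 : ((a * b : Subgroup.centralizer ({x₀} : Set A)) : A) ∉ f.range := fun h2 => by
        have := h.1 h2
        simp [ha, hb] at this
      rw [dif_neg h1, dif_pos ha, dif_neg hb]
      apply Subtype.ext
      show x₀ * (a * b) = a * (x₀ * b)
      rw [← mul_assoc, ← mul_assoc, hca]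
    · have h1 : ((a * b : Subgroup.centralizer ({x₀} : Set A)) : A) ∉ f.range := fun h2 => by
        have := h.1 h2
        simp [ha, hb] at this
      rw [dif_neg h1, dif_neg ha, dif_pos hb]
      apply Subtype.ext
      show x₀ * (a * b) = x₀ * a * b
      rw [mul_assoc]
    · have h1 : ((a * b : Subgroup.centralizer ({x₀} : Set A)) : A) ∈ f.range := h.2 (by simp [ha, hb])
      rw [dif_pos h1, dif_neg ha, dif_neg hb]
      apply Subtype.ext
      show (a : A) * b = x₀ * a * (x₀ * b)
      rw [mul_assoc x₀, ← mul_assoc (a : A), hca, mul_assoc x₀ (a : A), ← mul_assoc x₀ x₀, hx2, one_mul]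

theorem ret_of_mem {d : Subgroup.centralizer ({x₀} : Set A)} (hd : (d : A) ∈ f.range) :
    ((ret hi hx2 hx d : f.range) : A) = d :=
  congrArg Subtype.val (dif_pos hd)

theorem ret_of_not {d : Subgroup.centralizer ({x₀} : Set A)} (hd : (d : A) ∉ f.range) :
    ((ret hi hx2 hx d : f.range) : A) = x₀ * d :=
  congrArg Subtype.val (dif_neg hd)

/-- the projection of `C_A(x₀)` on `C` -/
noncomputable def prj (hf : Function.Injective f) (hi : f.range.index = 2) (hx2 : x₀ * x₀ = 1) (hx : x₀ ∉ f.range) :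
    Subgroup.centralizer ({x₀} : Set A) →* CS f x₀ :=
  MonoidHom.codRestrict ((MonoidHom.ofInjective hf).symm.toMonoidHom.comp (ret hi hx2 hx)) (CS f x₀) fun d => by
    show f ((MonoidHom.ofInjective hf).symm (ret hi hx2 hx d)) ∈ Subgroup.centralizer ({x₀} : Set A)
    rw [MonoidHom.apply_ofInjective_symm]
    by_cases hd : (d : A) ∈ f.range
    · rw [ret_of_mem hi hx2 hx hd]
      exact d.2
    · rw [ret_of_not hi hx2 hx hd]
      exact mul_mem (Subgroup.mem_centralizer_singleton_iff.2 rfl) d.2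

theorem f_prj (d : Subgroup.centralizer ({x₀} : Set A)) :
    f (prj hf hi hx2 hx d : S) = ((ret hi hx2 hx d : f.range) : A) :=
  MonoidHom.apply_ofInjective_symm hf _

/-- `c ↦ c` -/
def ia (c : CS f x₀) : Subgroup.centralizer ({x₀} : Set A) := ⟨f c, c.2⟩

/-- `c ↦ x₀ c` -/
def ja (c : CS f x₀) : Subgroup.centralizer ({x₀} : Set A) :=
  ⟨x₀ * f c, mul_mem (Subgroup.mem_centralizer_singleton_iff.2 rfl) c.2⟩

theorem ja_not (hx : x₀ ∉ f.range) (c : CS f x₀) : (ja c : A) ∉ f.range := by
  intro h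
  apply hx
  have h1 := mul_mem h (inv_mem (⟨(c : S), rfl⟩ : f (c : S) ∈ f.range))
  rwa [show (ja c : A) * (f (c : S))⁻¹ = x₀ from mul_inv_cancel_right _ _] at h1

theorem prj_ja (c : CS f x₀) : prj hf hi hx2 hx (ja c) = c := by
  apply Subtype.ext
  apply hf
  rw [f_prj, ret_of_not hi hx2 hx (ja_not hx c)]
  show x₀ * (x₀ * f c) = f c
  rw [← mul_assoc, hx2, one_mul]

/-- `C ⊕ C ≃ C_A(x₀)` -/
noncomputable def sumEquiv (hf : Function.Injective f) (hi : f.range.index = 2) (hx2 : x₀ * x₀ = 1) (hx : x₀ ∉ f.range) :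
    CS f x₀ ⊕ CS f x₀ ≃ Subgroup.centralizer ({x₀} : Set A) :=
  Equiv.ofBijective (Sum.elim ia ja) (by
    constructor
    · rintro (a | a) (b | b) h
      · have h1 : f (a : S) = f b := congrArg Subtype.val h
        rw [Subtype.ext (hf h1)]
      · exfalso
        have h1 : f (a : S) = x₀ * f b := congrArg Subtype.val h
        exact ja_not hx b (by show x₀ * f b ∈ f.range; rw [← h1]; exact ⟨a, rfl⟩)
      · exfalso
        have h1 : x₀ * f (a : S) = f b := congrArg Subtype.val h
        exact ja_not hx a (by show x₀ * f a ∈ f.range; rw [h1]; exact ⟨b, rfl⟩)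
      · have h1 : x₀ * f (a : S) = x₀ * f b := congrArg Subtype.val h
        rw [Subtype.ext (hf (mul_left_cancel h1))]
    · intro d
      by_cases hd : (d : A) ∈ f.range
      · refine ⟨Sum.inl (prj hf hi hx2 hx d), ?_⟩
        apply Subtype.ext
        show f (prj hf hi hx2 hx d : S) = d
        rw [f_prj, ret_of_mem hi hx2 hx hd]
      · refine ⟨Sum.inr (prj hf hi hx2 hx d), ?_⟩
        apply Subtype.ext
        show x₀ * f (prj hf hi hx2 hx d : S) = d
        rw [f_prj, ret_of_not hi hx2 hx hd, ← mul_assoc, hx2, one_mul])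

/-- the generalized character `(1 - ε) Ψ` of `C_A(x₀)` -/
noncomputable def ph (hf : Function.Injective f) (hi : f.range.index = 2) (hx2 : x₀ * x₀ = 1) (hx : x₀ ∉ f.range)
    (Ψ : CS f x₀ → ℂ) : Subgroup.centralizer ({x₀} : Set A) → ℂ :=
  fun d => (1 - (eps hi (d : A) : ℂ)) * Ψ (prj hf hi hx2 hx d)

theorem ph_ia (Ψ : CS f x₀ → ℂ) {d : Subgroup.centralizer ({x₀} : Set A)} (hd : (d : A) ∈ f.range) :
    ph hf hi hx2 hx Ψ d = 0 := by
  unfold ph
  rw [eps_of_mem hi hd, Units.val_one, sub_self, zero_mul]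

theorem ph_ja (Ψ : CS f x₀ → ℂ) (c : CS f x₀) : ph hf hi hx2 hx Ψ (ja c) = 2 * Ψ c := by
  unfold ph
  rw [eps_of_not hi (ja_not hx c), prj_ja, Units.val_neg, Units.val_one]
  ring

theorem isGen_ph {Ψ : CS f x₀ → ℂ} (hΨ : IsGeneralizedCharacter (CS f x₀) Ψ) :
    IsGeneralizedCharacter (Subgroup.centralizer ({x₀} : Set A)) (ph hf hi hx2 hx Ψ) := by
  have h1 : IsGeneralizedCharacter (Subgroup.centralizer ({x₀} : Set A)) (Ψ ∘ prj hf hi hx2 hx) := by
    obtain ⟨α, β, hα, hβ, rfl⟩ := hΨ
    exact ⟨_, _, isCharacter_comp _ hα, isCharacter_comp _ hβ, rfl⟩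
  have h2 : IsGeneralizedCharacter (Subgroup.centralizer ({x₀} : Set A))
      (fun d : Subgroup.centralizer ({x₀} : Set A) => (eps hi (d : A) : ℂ)) :=
    Brauer.isGeneralizedCharacter_of_isCharacter
      (Brauer.isCharacter_of_monoidHom
        ((Units.coeHom ℂ).comp ((eps hi).comp (Subgroup.centralizer ({x₀} : Set A)).subtype)))
  have h3 := Brauer.isGeneralizedCharacter_sub h1 (Brauer.isGeneralizedCharacter_mul h2 h1)
  convert h3 using 1
  funext d
  simp only [ph, Pi.sub_apply, Pi.mul_apply, Function.comp_apply]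
  ring

section ind

variable [Fintype A] {Ψ : CS f x₀ → ℂ} (hΨ : IsGeneralizedCharacter (CS f x₀) Ψ)
  (hV : ∀ c : CS f x₀, ¬ Odd (orderOf c) → Ψ c = 0)

/-- the class function of `A` -/
noncomputable def gg (hf : Function.Injective f) (hi : f.range.index = 2) (hx2 : x₀ * x₀ = 1) (hx : x₀ ∉ f.range)
    (Ψ : CS f x₀ → ℂ) : A → ℂ := indFun (Subgroup.centralizer ({x₀} : Set A)) (ph hf hi hx2 hx Ψ)

include hΨ in
theorem isGen_gg : IsGeneralizedCharacter A (gg hf hi hx2 hx Ψ) :=
  Brauer.isGeneralizedCharacter_indFun _ (isGen_ph hf hi hx2 hx hΨ)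

/-- the inner product with a class function -/
theorem inner_gg [Fintype (CS f x₀)] {θ : A → ℂ} (hθ : IsClassFunction A θ) :
    classInner (gg hf hi hx2 hx Ψ) θ = classInner Ψ (fun c : CS f x₀ => θ (x₀ * f c)) := by
  classical
  have : Fintype (Subgroup.centralizer ({x₀} : Set A)) := Fintype.ofFinite _
  unfold gg
  rw [CharactersDeep.NormalInd.classInner_indFun _ _ _ hθ]
  unfold classInner
  rw [← Equiv.sum_comp (sumEquiv hf hi hx2 hx), Fintype.sum_sum_type,
    ← Nat.card_congr (sumEquiv hf hi hx2 hx), Nat.card_sum]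
  have h1 : ∀ c : CS f x₀, ph hf hi hx2 hx Ψ (sumEquiv hf hi hx2 hx (Sum.inl c)) = 0 := fun c =>
    ph_ia hf hi hx2 hx Ψ ⟨c, rfl⟩
  have h2 : ∀ c : CS f x₀, ph hf hi hx2 hx Ψ (sumEquiv hf hi hx2 hx (Sum.inr c)) = 2 * Ψ c := fun c =>
    ph_ja hf hi hx2 hx Ψ c
  simp only [h1, h2, zero_mul, Finset.sum_const_zero, zero_add]
  have h3 : ∀ c : CS f x₀, 2 * Ψ c * conj (θ (sumEquiv hf hi hx2 hx (Sum.inr c) : Subgroup.centralizer ({x₀} : Set A)))
      = 2 * (Ψ c * conj (θ (x₀ * f c))) := fun c => by rw [mul_assoc]; rfl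
  rw [Finset.sum_congr rfl fun c _ => h3 c, ← Finset.mul_sum, ← mul_assoc]
  congr 1
  have h4 : (Nat.card (CS f x₀) : ℂ) ≠ 0 := Nat.cast_ne_zero.2 Nat.card_pos.ne'
  push_cast
  field_simp
  ring

/-- on `S` -/
theorem gg_range (s : S) : gg hf hi hx2 hx Ψ (f s) = 0 := by
  have hn : f.range.Normal := Subgroup.normal_of_index_eq_two hi
  unfold gg
  rw [Core.indFun_apply]
  refine mul_eq_zero_of_right _ (Finset.sum_eq_zero fun a _ => ?_)
  by_cases h : a⁻¹ * f s * a ∈ Subgroup.centralizer ({x₀} : Set A)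
  · rw [Core.extendByZero_of_mem _ _ h]
    refine ph_ia hf hi hx2 hx Ψ ?_
    have := hn.conj_mem (f s) ⟨s, rfl⟩ a⁻¹
    rwa [inv_inv] at this
  · exact Core.extendByZero_of_notMem _ _ h

include hΨ hV in
/-- on `x₀ c` -/
theorem gg_coset [Finite S] {c : CS f x₀} (hc : Odd (orderOf c)) : gg hf hi hx2 hx Ψ (x₀ * f c) = 2 * Ψ c := by
  classical
  have hn : f.range.Normal := Subgroup.normal_of_index_eq_two hi
  have hcl := H646.ProjLat.isClassFunction_of_gen (isGen_ph hf hi hx2 hx hΨ)
  unfold gg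
  rw [Core.indFun_apply]
  have key : ∀ a : A, extendByZero (Subgroup.centralizer ({x₀} : Set A)) (ph hf hi hx2 hx Ψ) (a⁻¹ * (x₀ * f c) * a) =
      if a ∈ Subgroup.centralizer ({x₀} : Set A) then 2 * Ψ c else 0 := by
    intro a
    by_cases ha : a ∈ Subgroup.centralizer ({x₀} : Set A)
    · rw [if_pos ha]
      have h1 : a⁻¹ * (x₀ * f c) * a = (((⟨a, ha⟩ : Subgroup.centralizer ({x₀} : Set A))⁻¹ * ja c *
          ((⟨a, ha⟩ : Subgroup.centralizer ({x₀} : Set A))⁻¹)⁻¹ : Subgroup.centralizer ({x₀} : Set A)) : A) := by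
        rw [inv_inv]
        rfl
      rw [h1, Brauer.extendByZero_coe, hcl, ph_ja]
    · rw [if_neg ha]
      by_cases h : a⁻¹ * (x₀ * f c) * a ∈ Subgroup.centralizer ({x₀} : Set A)
      · rw [Core.extendByZero_of_mem _ _ h]
        set d : Subgroup.centralizer ({x₀} : Set A) := ⟨_, h⟩ with hd
        obtain ⟨c', hc'⟩ := (sumEquiv hf hi hx2 hx).surjective d
        rcases c' with c' | c'
        · rw [← hc']
          exact ph_ia hf hi hx2 hx Ψ ⟨c', rfl⟩
        · have h2 : ja c' = d := hc'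
          rw [← h2, ph_ja]
          by_cases ho : Odd (orderOf c')
          · exfalso
            apply ha
            -- the `2`-part
            set n := orderOf c * orderOf c' with hnn
            have hodd : Odd n := hc.mul ho
            have hxn : x₀ ^ n = x₀ := by
              obtain ⟨k, hk⟩ := hodd
              rw [hk, pow_succ, pow_mul, pow_two, hx2, one_pow, one_mul]
            have hcomm : ∀ e : CS f x₀, Commute x₀ (f e) := fun e => ((mem_CS f x₀).1 e.2).symm
            have h5 : (x₀ * f c) ^ n = x₀ := by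
              rw [(hcomm c).mul_pow, hxn, ← map_pow, hnn, pow_mul]
              have : ((c : S)) ^ orderOf c = 1 := by
                have := congrArg Subtype.val (pow_orderOf_eq_one c)
                exact this
              rw [this, one_pow, map_one, mul_one]
            have h6 : (x₀ * f c') ^ n = x₀ := by
              rw [(hcomm c').mul_pow, hxn, ← map_pow, hnn, mul_comm, pow_mul]
              have : ((c' : S)) ^ orderOf c' = 1 := by
                have := congrArg Subtype.val (pow_orderOf_eq_one c')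
                exact this
              rw [this, one_pow, map_one, mul_one]
            have h7 : x₀ * f c' = a⁻¹ * (x₀ * f c) * a := congrArg Subtype.val h2
            have h8 : (a⁻¹ * (x₀ * f c) * a) ^ n = a⁻¹ * (x₀ * f c) ^ n * a := by
              have := conj_pow (i := n) (a := a⁻¹) (b := x₀ * f c)
              rwa [inv_inv] at this
            rw [h7, h8, h5] at h6
            rw [Subgroup.mem_centralizer_singleton_iff]
            calc a * x₀ = a * (a⁻¹ * x₀ * a) := by rw [h6]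
              _ = x₀ * a := by group
          · rw [hV c' ho, mul_zero]
      · exact Core.extendByZero_of_notMem _ _ h
  rw [Finset.sum_congr rfl fun a _ => key a, ← Finset.sum_filter, Finset.sum_const, nsmul_eq_mul]
  have h9 : ((Finset.univ.filter fun a : A => a ∈ Subgroup.centralizer ({x₀} : Set A)).card) =
      Nat.card (Subgroup.centralizer ({x₀} : Set A)) := by
    rw [← Fintype.card_subtype, Nat.card_eq_fintype_card]
  rw [h9, ← mul_assoc, inv_mul_cancel₀ (Nat.cast_ne_zero.2 Nat.card_pos.ne'), one_mul]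

include hΨ hV in
/-- the norm -/
theorem norm_gg [Finite S] [Fintype (CS f x₀)] :
    classInner (gg hf hi hx2 hx Ψ) (gg hf hi hx2 hx Ψ) = 2 * classInner Ψ Ψ := by
  rw [inner_gg hf hi hx2 hx (H646.ProjLat.isClassFunction_of_gen (isGen_gg hf hi hx2 hx hΨ))]
  have h1 : ∀ c : CS f x₀, Ψ c * conj (gg hf hi hx2 hx Ψ (x₀ * f c)) = 2 * (Ψ c * conj (Ψ c)) := by
    intro c
    by_cases hc : Odd (orderOf c)
    · rw [gg_coset hf hi hx2 hx hΨ hV hc, map_mul, Complex.conj_ofNat]
      ring
    · rw [hV c hc, zero_mul, zero_mul, mul_zero]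
  unfold classInner
  rw [Finset.sum_congr rfl fun c _ => h1 c, ← Finset.mul_sum]
  ring

/-- rationality -/
theorem rat_gg (hr : ∀ c, ∃ q : ℚ, Ψ c = q) (a : A) : ∃ q : ℚ, gg hf hi hx2 hx Ψ a = q := by
  classical
  have h1 : ∀ d : Subgroup.centralizer ({x₀} : Set A), ∃ q : ℚ, ph hf hi hx2 hx Ψ d = q := by
    intro d
    obtain ⟨q, hq⟩ := hr (prj hf hi hx2 hx d)
    by_cases hd : (d : A) ∈ f.range
    · exact ⟨0, by rw [ph_ia hf hi hx2 hx Ψ hd]; push_cast; rfl⟩
    · refine ⟨2 * q, ?_⟩
      unfold ph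
      rw [eps_of_not hi hd, hq, Units.val_neg, Units.val_one]
      push_cast
      ring
  have h2 : ∀ a : A, ∃ q : ℚ, extendByZero (Subgroup.centralizer ({x₀} : Set A)) (ph hf hi hx2 hx Ψ) a = q := by
    intro a
    by_cases h : a ∈ Subgroup.centralizer ({x₀} : Set A)
    · rw [Core.extendByZero_of_mem _ _ h]
      exact h1 _
    · exact ⟨0, by rw [Core.extendByZero_of_notMem _ _ h]; push_cast; rfl⟩
  choose q hq using h2
  refine ⟨(Nat.card (Subgroup.centralizer ({x₀} : Set A)) : ℚ)⁻¹ * ∑ x : A, q (x⁻¹ * a * x), ?_⟩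
  unfold gg
  rw [Core.indFun_apply]
  simp only [hq]
  push_cast
  rfl

end ind

end

end Cfsg.Agent.H48.R2
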